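import Groth.Agent.DTenLib.Base
import Groth.Agent.DRingKP.Derive
import Groth.Agent.LTenDev.Basic
import Groth.Prelude.Def_DDual2
import Mathlib.Algebra.Homology.HomotopyCategory.ShortExact
import Mathlib.Algebra.Polynomial.Inductions

/-!
# `K ⊗^L_{R[x]} R = K ⊕ K[1]` for `x` acting by zero

The resolution of a complex of `R`-modules over `R[x]` is the cone of `x : P[x] → P[x]`.
-/

set_option autoImplicit false
set_option backward.isDefEq.respectTransparency false

universe u

open CategoryTheory Limits Pretriangulated TensorProduct Polynomial ModuleCat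
open scoped ChangeOfRings

attribute [local instance] HasDerivedCategory.standard

noncomputable section

namespace Groth.Agent.PolyCone

variable {A : Type u} [CommRing A]

theorem isKProjective_mappingCone {P Q : DRing.Cx A} [hP : P.IsKProjective] [hQ : Q.IsKProjective] (f : P ⟶ Q) :
    (CochainComplex.mappingCone f).IsKProjective := by
  rw [CochainComplex.isKProjective_iff_leftOrthogonal] at hP hQ ⊢
  exact ObjectProperty.ext_of_isTriangulatedClosed₃ _ _
    (HomotopyCategory.mappingCone_triangleh_distinguished f) hP hQ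

variable (R : Type u) [CommRing R]

/-- evaluation at `0` -/
abbrev ev : R[X] →+* R := evalRingHom 0

variable {R}

/-- `M[x] → M`, evaluation at `0` -/
def evM (M : ModuleCat.{u} R) :
    (extendScalars.{u, u, u} (C : R →+* R[X])).obj M ⟶ (restrictScalars.{u} (ev R)).obj M :=
  ((extendRestrictScalarsAdj.{u, u, u} (C : R →+* R[X])).homEquiv M ((restrictScalars.{u} (ev R)).obj M)).symm
    (ModuleCat.ofHom (Y := (restrictScalars.{u} (C : R →+* R[X])).obj ((restrictScalars.{u} (ev R)).obj M))
      { toFun := fun m => m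
        map_add' := fun _ _ => rfl
        map_smul' := fun a m => by
          show a • (show M from m) = (ev R (C a)) • (show M from m)
          rw [coe_evalRingHom, eval_C] })

theorem evM_tmul (M : ModuleCat.{u} R) (p : R[X]) (m : M) :
    (evM M).hom (p ⊗ₜ[R,(C : R →+* R[X])] m) = (ev R p • m : M) :=
  rfl

/-- `x` on `M[x]` -/
def mulX (M : ModuleCat.{u} R) :
    (extendScalars.{u, u, u} (C : R →+* R[X])).obj M ⟶ (extendScalars.{u, u, u} (C : R →+* R[X])).obj M :=
  (X : R[X]) • 𝟙 _

/-- `(p ⊗ m) ↦ (p - p(0))/x ⊗ m` -/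
def divM (M : ModuleCat.{u} R) :
    TensorProduct R ((restrictScalars.{u} (C : R →+* R[X])).obj (ModuleCat.of R[X] R[X])) M →ₗ[R]
      TensorProduct R ((restrictScalars.{u} (C : R →+* R[X])).obj (ModuleCat.of R[X] R[X])) M :=
  LinearMap.rTensor M
    ({ toFun := fun p => divX (show R[X] from p)
       map_add' := fun _ _ => divX_add
       map_smul' := fun a p => (divX_C_mul (a := a) (p := show R[X] from p) :) } :
      (restrictScalars.{u} (C : R →+* R[X])).obj (ModuleCat.of R[X] R[X]) →ₗ[R]
        (restrictScalars.{u} (C : R →+* R[X])).obj (ModuleCat.of R[X] R[X]))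

theorem divM_X (M : ModuleCat.{u} R) (t : (extendScalars.{u, u, u} (C : R →+* R[X])).obj M) :
    divM M ((mulX M).hom t) = t := by
  induction t using TensorProduct.induction_on with
  | zero => exact (congrArg (divM M) (map_zero _)).trans (map_zero _)
  | tmul p m =>
    show divM M (((X : R[X]) * (show R[X] from p)) ⊗ₜ[R,(C : R →+* R[X])] m) = _
    show divX ((X : R[X]) * (show R[X] from p)) ⊗ₜ[R,(C : R →+* R[X])] m = p ⊗ₜ[R,(C : R →+* R[X])] m
    congr 1
    exact Polynomial.ext fun n => by rw [coeff_divX, coeff_X_mul]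
  | add x y hx hy => erw [map_add, map_add, hx, hy]

/-- `m ↦ 1 ⊗ m` -/
def oneT (M : ModuleCat.{u} R) (m : (restrictScalars.{u} (ev R)).obj M) :
    (extendScalars.{u, u, u} (C : R →+* R[X])).obj M :=
  (show (restrictScalars.{u} (C : R →+* R[X])).obj (ModuleCat.of R[X] R[X]) from (1 : R[X])) ⊗ₜ[R] (show M from m)

theorem oneT_zero (M : ModuleCat.{u} R) : oneT M 0 = 0 := TensorProduct.tmul_zero _ _

theorem oneT_add (M : ModuleCat.{u} R) (a b : (restrictScalars.{u} (ev R)).obj M) :
    oneT M (a + b) = oneT M a + oneT M b :=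
  TensorProduct.tmul_add _ _ _

theorem oneT_smul (M : ModuleCat.{u} R) (a : R) (m : M) :
    oneT M (a • m : M) = (C a * 1 : R[X]) ⊗ₜ[R,(C : R →+* R[X])] m :=
  (TensorProduct.tmul_smul a
    (show (restrictScalars.{u} (C : R →+* R[X])).obj (ModuleCat.of R[X] R[X]) from (1 : R[X])) m).trans
    (TensorProduct.smul_tmul' a
      (show (restrictScalars.{u} (C : R →+* R[X])).obj (ModuleCat.of R[X] R[X]) from (1 : R[X])) m)

theorem decomp (M : ModuleCat.{u} R) (t : (extendScalars.{u, u, u} (C : R →+* R[X])).obj M) :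
    (mulX M).hom (divM M t) + oneT M ((evM M).hom t) = t := by
  induction t using TensorProduct.induction_on with
  | zero =>
    erw [map_zero, map_zero, oneT_zero]
    exact add_zero _
  | tmul p m =>
    erw [evM_tmul, oneT_smul]
    show ((X : R[X]) * divX (show R[X] from p)) ⊗ₜ[R,(C : R →+* R[X])] m +
      (C (ev R p) * 1 : R[X]) ⊗ₜ[R,(C : R →+* R[X])] m = _
    refine (TensorProduct.add_tmul
      (show (restrictScalars.{u} (C : R →+* R[X])).obj (ModuleCat.of R[X] R[X]) from
        (X : R[X]) * divX (show R[X] from p))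
      (show (restrictScalars.{u} (C : R →+* R[X])).obj (ModuleCat.of R[X] R[X]) from (C (ev R p) * 1 : R[X]))
      m).symm.trans ?_
    congr 1
    show (X : R[X]) * divX (show R[X] from p) + C (ev R p) * 1 = p
    rw [mul_one, coe_evalRingHom, ← coeff_zero_eq_eval_zero]
    exact X_mul_divX_add _
  | add x y hx hy =>
    erw [map_add, map_add, map_add, oneT_add, add_add_add_comm, hx, hy]

variable (P : DRing.Cx R)

/-- `P[x]` -/
abbrev polyCx : DRing.Cx R[X] := (DRingKP.bc (C : R →+* R[X])).obj P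

/-- evaluation on complexes -/
def evCx : polyCx P ⟶ (DRing.restrictCx (ev R)).obj P where
  f i := evM (P.X i)
  comm' i j _ := ExtendScalars.hom_ext fun m => by
    show ((evM (P.X i) ≫ (restrictScalars.{u} (ev R)).map (P.d i j))) ((1 : R[X]) ⊗ₜ[R,(C : R →+* R[X])] m) =
      (((extendScalars.{u, u, u} (C : R →+* R[X])).map (P.d i j) ≫ evM (P.X j))) ((1 : R[X]) ⊗ₜ[R,(C : R →+* R[X])] m)
    show (P.d i j).hom (ev R 1 • m : P.X i) = (ev R 1 • (P.d i j).hom m : P.X j)
    rw [map_smul]

theorem mulX_comp_evM (M : ModuleCat.{u} R) : mulX M ≫ evM M = 0 :=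
  ExtendScalars.hom_ext fun m => by
    show (evM M).hom (((X : R[X]) * 1) ⊗ₜ[R,(C : R →+* R[X])] m) = 0
    rw [evM_tmul, mul_one, coe_evalRingHom, eval_X, zero_smul]

/-- `P[x] → P[x] → P` -/
def seq : ShortComplex (DRing.Cx R[X]) :=
  ShortComplex.mk ((X : R[X]) • 𝟙 (polyCx P)) (evCx P)
    (HomologicalComplex.hom_ext _ _ fun i => mulX_comp_evM (P.X i))

theorem seq_shortExact : (seq P).ShortExact := by
  refine HomologicalComplex.shortExact_of_degreewise_shortExact _ fun i => ?_
  refine { exact := ?_, mono_f := ?_, epi_g := ?_ }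
  · refine (ShortComplex.moduleCat_exact_iff _).2 fun t (ht : (evM (P.X i)).hom t = 0) => ⟨divM (P.X i) t, ?_⟩
    show (mulX (P.X i)).hom (divM (P.X i) t) = t
    refine (add_zero _).symm.trans (Eq.trans ?_ (decomp (P.X i) t))
    rw [ht, oneT_zero]
  · exact (ModuleCat.mono_iff_injective (mulX (P.X i))).2 (Function.LeftInverse.injective (divM_X (P.X i)))
  · exact (ModuleCat.epi_iff_surjective (evM (P.X i))).2 fun m =>
      ⟨(1 : R[X]) ⊗ₜ[R,(C : R →+* R[X])] (show P.X i from m), by
        rw [evM_tmul, map_one, one_smul]⟩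

/-- the resolution of `P` over `R[x]` -/
abbrev cone : DRing.Cx R[X] := CochainComplex.mappingCone ((X : R[X]) • 𝟙 (polyCx P))

/-- `(P[x])(0) = P` -/
def bcPolyIso : (DRingKP.bc (ev R)).obj (polyCx P) ≅ P :=
  let α : extendScalars.{u, u, u} (C : R →+* R[X]) ⋙ extendScalars.{u, u, u} (ev R) ≅ 𝟭 (ModuleCat.{u} R) :=
    (extendScalarsComp (C : R →+* R[X]) (ev R)).symm ≪≫
      eqToIso (congrArg (fun f : R →+* R => extendScalars.{u, u, u} f)
        (RingHom.ext fun a => eval_C : (ev R).comp C = RingHom.id R)) ≪≫ extendScalarsId R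
  HomologicalComplex.Hom.isoOfComponents (fun i => α.app (P.X i))
    (fun i j _ => (α.hom.naturality (P.d i j)).symm)

theorem bc_map_X : (DRingKP.bc (ev R)).map ((X : R[X]) • 𝟙 (polyCx P)) = 0 :=
  HomologicalComplex.hom_ext _ _ fun i => ExtendScalars.hom_ext fun m => by
    show (1 : R) ⊗ₜ[R[X],ev R] ((X : R[X]) • m) = 0
    letI : Algebra R[X] R := (ev R).toAlgebra
    erw [← TensorProduct.smul_tmul]
    show (ev R X * 1) ⊗ₜ[R[X],ev R] m = 0
    rw [coe_evalRingHom, eval_X, zero_mul]
    exact TensorProduct.zero_tmul _ _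

variable (R) in
theorem nonempty_iso [DRing.HasLBaseChange (ev R)] (K : Dual.D R)
    [HasBinaryBiproduct K ((CategoryTheory.shiftFunctor (Dual.D R) (1 : ℤ)).obj K)] :
    Nonempty ((DRing.LBaseChange (ev R)).obj ((DRing.restrictD (ev R)).obj K) ≅
      K ⊞ (CategoryTheory.shiftFunctor (Dual.D R) (1 : ℤ)).obj K) := by
  obtain ⟨P, c, hPk, hc, -⟩ := LTenDev.exists_resolution (DerivedCategory.Q.objPreimage K)
  haveI : QuasiIso c := hc
  let eP : DRing.toD P ≅ K := asIso (DerivedCategory.Q.map c) ≪≫ DerivedCategory.Q.objObjPreimageIso K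
  haveI : (polyCx P).IsKProjective := DTenLib.isKProjective_ext (C : R →+* R[X]) P
  haveI := isKProjective_mappingCone ((X : R[X]) • 𝟙 (polyCx P))
  haveI : QuasiIso (CochainComplex.mappingCone.descShortComplex (seq P)) :=
    CochainComplex.mappingCone.quasiIso_descShortComplex (seq_shortExact P)
  let e₁ : (DRing.restrictD (ev R)).obj K ≅ DRing.toD (cone P) :=
    (DRing.restrictD (ev R)).mapIso eP.symm ≪≫
      (restrictScalars.{u} (ev R)).mapDerivedCategoryFactors.app P ≪≫
      (asIso (DerivedCategory.Q.map (CochainComplex.mappingCone.descShortComplex (seq P)))).symm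
  let g := (DRingKP.bc (ev R)).map ((X : R[X]) • 𝟙 (polyCx P))
  let e₂ : (DRing.LBaseChange (ev R)).obj ((DRing.restrictD (ev R)).obj K) ≅
      DerivedCategory.Q.obj (CochainComplex.mappingCone g) :=
    (DRing.LBaseChange (ev R)).mapIso e₁ ≪≫ DRingKP.lBaseChangeIso (ev R) (cone P) ≪≫
      DerivedCategory.Q.mapIso (CochainComplex.mappingCone.mapHomologicalComplexIso _ (extendScalars.{u, u, u} (ev R)))
  have hT := rot_of_distTriang _ (DerivedCategory.mappingCone_triangle_distinguished g)
  have h0 : DerivedCategory.Q.map g = 0 := by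
    rw [show g = 0 from bc_map_X P, Functor.map_zero]
  obtain ⟨e, -, -⟩ := exists_iso_binaryBiproduct_of_distTriang _ hT (by
    show -((CategoryTheory.shiftFunctor (Dual.D R) (1 : ℤ)).map (DerivedCategory.Q.map g)) = 0
    rw [h0, Functor.map_zero, neg_zero])
  let eK : DerivedCategory.Q.obj ((DRingKP.bc (ev R)).obj (polyCx P)) ≅ K :=
    DerivedCategory.Q.mapIso (bcPolyIso P) ≪≫ eP
  exact ⟨e₂ ≪≫ e ≪≫ biprod.mapIso eK ((CategoryTheory.shiftFunctor (Dual.D R) (1 : ℤ)).mapIso eK)⟩

end Groth.Agent.PolyCone
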